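import Groth.Agent.FlatDvr.FibreStalk
import Groth.Agent.GrpSchLib.SmoothRegular
import Groth.Agent.S10834
import Groth.Agent.S2854
import Groth.Agent.RegLoc6.Serre
import Groth.Agent.Triage.SliceFlatSch
import Groth.Prelude.Def_CInt
import Mathlib.RingTheory.Regular.Flat
import Mathlib.AlgebraicGeometry.Properties

/-!
# Regular sequences of length two vanishing outside a fibrewise big open subset
-/

set_option autoImplicit false
set_option backward.isDefEq.respectTransparency false
set_option backward.isDefEq.respectTransparency.types false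

universe u

open CategoryTheory AlgebraicGeometry TopologicalSpace IsLocalRing RingTheory.Sequence Pointwise

namespace Groth.Agent.RhoShLib

variable {X S : Scheme.{u}}

theorem ringKrullDim_fiber_stalk (g : X ⟶ S) {s : S} (w : g.fiber s) :
    ringKrullDim ↑((g.fiber s).presheaf.stalk w) = ringKrullDim ↑(CInt.fiberStalk g (g.fiberι s w)) := by
  suffices H : ∀ (x : X) (t : S) (_ : g x = t) (v : g.fiber t), g.fiberι t v = x →
      ringKrullDim ↑((g.fiber t).presheaf.stalk v) = ringKrullDim ↑(CInt.fiberStalk g x) from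
    H _ s (FlatDvr.fiberι_apply_eq g w) w rfl
  rintro x t rfl v hv
  have : v = g.asFiber x := (g.fiberι _).isEmbedding.injective (hv.trans (g.fiberι_asFiber x).symm)
  exact congrArg (fun v => ringKrullDim ↑((g.fiber _).presheaf.stalk v)) this

/-- A chain of two generizations gives height two in the local ring. -/
theorem two_le_height {T : Scheme.{u}} (t : T) (P : Spec (T.presheaf.stalk t))
    (h : (2 : WithBot ℕ∞) ≤ ringKrullDim ↑(T.presheaf.stalk (T.fromSpecStalk t P))) :
    (2 : ℕ∞) ≤ P.asIdeal.height := by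
  rw [ringKrullDim_stalk_eq_coheight] at h
  have h' : ((2 : ℕ) : ℕ∞) ≤ Order.coheight (T.fromSpecStalk t P) := WithBot.coe_le_coe.1 h
  obtain ⟨p, hp, hl⟩ := Order.exists_series_of_le_coheight _ h'
  have hlt : ∀ i j : Fin (p.length + 1), i < j → p i < p j := fun i j hij => p.strictMono hij
  have hPt : T.fromSpecStalk t P ⤳ t := by
    have := Set.mem_range_self (f := T.fromSpecStalk t) P
    rwa [Scheme.range_fromSpecStalk] at this
  have hlift : ∀ i, ∃ Q : Spec (T.presheaf.stalk t), T.fromSpecStalk t Q = p i := fun i => by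
    have hh : p i ⤳ t := by
      have : T.fromSpecStalk t P ≤ p i := hp ▸ p.monotone (Fin.zero_le i)
      exact (Scheme.le_iff_specializes.1 this).trans hPt
    show p i ∈ Set.range (T.fromSpecStalk t)
    rw [Scheme.range_fromSpecStalk]; exact hh
  choose Q hQ using hlift
  have hdec : ∀ i j : Fin (p.length + 1), i < j →
      (show PrimeSpectrum (T.presheaf.stalk t) from Q j) < (show PrimeSpectrum (T.presheaf.stalk t) from Q i) := by
    intro i j hij
    have hsp : Q j ⤳ Q i := by
      rw [← (T.fromSpecStalk t).isEmbedding.isInducing.specializes_iff, hQ, hQ]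
      exact Scheme.le_iff_specializes.1 (hlt i j hij).le
    refine lt_of_le_of_ne ((PrimeSpectrum.le_iff_specializes _ _).2 hsp) fun he => (hlt i j hij).ne ?_
    rw [← hQ, ← hQ]
    exact congrArg _ he.symm
  have hQ0 : Q 0 = P := (T.fromSpecStalk t).isEmbedding.injective ((hQ 0).trans hp)
  have h1 := Order.height_add_one_le (hdec ⟨1, by omega⟩ ⟨2, by omega⟩ (by simp [Fin.lt_def]))
  have h0 := Order.height_add_one_le (hdec 0 ⟨1, by omega⟩ (by simp [Fin.lt_def]))
  rw [PrimeSpectrum.height_eq_orderHeight, ← hQ0]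
  calc (2 : ℕ∞) = 0 + 1 + 1 := by norm_num
    _ ≤ _ := by
      refine le_trans ?_ h0
      gcongr
      exact le_trans (by gcongr; exact zero_le) h1

/-- The sections whose non-vanishing locus lies in `U`. -/
def vanOutside (U W : X.Opens) : Ideal Γ(X, W) where
  carrier := {f | X.basicOpen f ≤ U}
  zero_mem' := by simp
  add_mem' {a b} ha hb := (X.basicOpen_add_le a b).trans (sup_le ha hb)
  smul_mem' c {a} ha := by
    show X.basicOpen (c * a) ≤ U
    rw [X.basicOpen_mul]; exact inf_le_right.trans ha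

/-- Near a point outside a fibrewise big open subset of a smooth scheme there are two sections forming
a regular sequence whose non-vanishing loci are in the open subset. -/
theorem exists_two_regular (g : X ⟶ S) [Smooth g] (U : X.Opens)
    (hU : ∀ x : X, x ∉ U → (2 : WithBot ℕ∞) ≤ ringKrullDim ↑(CInt.fiberStalk g x))
    (x₀ : X) (hx₀ : x₀ ∉ U) :
    ∃ (V : X.Opens) (_ : IsAffineOpen V) (_ : x₀ ∈ V) (a b : Γ(X, V)),
      IsWeaklyRegular Γ(X, V) [a, b] ∧ X.basicOpen a ≤ U ∧ X.basicOpen b ≤ U := by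
  suffices H : ∀ (s : S) (w : g.fiber s), g.fiberι s w ∉ U →
      ∃ (V : X.Opens) (_ : IsAffineOpen V) (_ : g.fiberι s w ∈ V) (a b : Γ(X, V)),
        IsWeaklyRegular Γ(X, V) [a, b] ∧ X.basicOpen a ≤ U ∧ X.basicOpen b ≤ U by
    have h1 := H (g x₀) (g.asFiber x₀)
    rw [g.fiberι_asFiber] at h1
    exact h1 hx₀
  clear x₀ hx₀
  intro s w hwU
  set x := g.fiberι s w with hxdef
  haveI hsm : Smooth (g.fiberToSpecResidueField s) := MorphismProperty.pullback_snd _ _ ‹_›
  let T := g.fiber s
  let F := T.presheaf.stalk w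
  haveI : IsRegularLocalRing ↑F :=
    @GrpSchLib.isRegularLocalRing_stalk_of_smooth (S.residueField s) _ T (g.fiberToSpecResidueField s) hsm w
  haveI : IsNoetherianRing ↑F := inferInstance
  haveI := RegLoc6.isDomain_of_isRegularLocalRing ↑F
  obtain ⟨W, hW, hxW, -⟩ := exists_isAffineOpen_mem_and_subset (X := X) (x := x) (U := ⊤) trivial
  letI := X.presheaf.algebra_section_stalk ⟨x, hxW⟩
  haveI := hW.isLocalization_stalk ⟨x, hxW⟩
  let γ : Γ(X, W) →+* X.presheaf.stalk x := (X.presheaf.germ W x hxW).hom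
  let π : X.presheaf.stalk x →+* F := ((g.fiberι s).stalkMap w).hom
  have hπ : Function.Surjective π := (g.fiberι s).stalkMap_surjective w
  let I := vanOutside U W
  let IF : Ideal F := (I.map γ).map π
  have hprime : ∀ (P : Ideal F) [P.IsPrime], IF ≤ P →
      (2 : ℕ∞) ≤ LocCoh.depth (Localization.AtPrime P) (LocalizedModule P.primeCompl F) := by
    intro P _ hIP
    let z : T := T.fromSpecStalk w (⟨P, ‹_›⟩ : PrimeSpectrum F)
    have hzw : z ⤳ w := by
      have := Set.mem_range_self (f := T.fromSpecStalk w) (⟨P, ‹_›⟩ : PrimeSpectrum F)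
      rwa [Scheme.range_fromSpecStalk] at this
    have hzU : g.fiberι s z ∉ U := by
      intro hz
      have hzW : g.fiberι s z ∈ W := (hzw.map (g.fiberι s).continuous).mem_open W.2 hxW
      obtain ⟨f, hfle, hzf⟩ := hW.exists_basicOpen_le (V := U ⊓ W) ⟨g.fiberι s z, ⟨hz, hzW⟩⟩ hzW
      have hfI : f ∈ I := hfle.trans inf_le_left
      have hmem : π (γ f) ∈ P := hIP (Ideal.mem_map_of_mem π (Ideal.mem_map_of_mem γ hfI))
      have hz' : z ∈ T.basicOpen ((g.fiberι s).app W f) := by
        rw [← Scheme.preimage_basicOpen]; exact hzf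
      have hπf : π (γ f) = T.presheaf.germ (g.fiberι s ⁻¹ᵁ W) w hxW ((g.fiberι s).app W f) :=
        Scheme.Hom.germ_stalkMap_apply (g.fiberι s) W w hxW f
      have hP : (⟨P, ‹_›⟩ : PrimeSpectrum F) ∈ T.fromSpecStalk w ⁻¹ᵁ T.basicOpen ((g.fiberι s).app W f) := hz'
      rw [Scheme.preimage_basicOpen, Scheme.fromSpecStalk_app (X := T) (x := w) hxW] at hP
      simp only [CommRingCat.comp_apply, Scheme.basicOpen_res, inf_comm] at hP
      rw [basicOpen_eq_of_affine] at hP
      exact (hP.2 : _ ∉ P) (hπf ▸ hmem)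
    have hd := hU _ hzU
    rw [← ringKrullDim_fiber_stalk] at hd
    have hh : (2 : ℕ∞) ≤ P.height := two_le_height w (⟨P, ‹_›⟩ : PrimeSpectrum F) hd
    haveI : IsRegularLocalRing (Localization.AtPrime P) := RegLoc6.isRegularLocalRing_localization _ P
    let e : LocalizedModule P.primeCompl F ≃ₗ[Localization.AtPrime P] Localization.AtPrime P :=
      LinearEquiv.extendScalarsOfIsLocalization P.primeCompl (Localization.AtPrime P)
        (IsLocalizedModule.linearEquiv P.primeCompl (LocalizedModule.mkLinearMap P.primeCompl F)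
          (Algebra.linearMap F (Localization.AtPrime P)))
    rw [Hensel.depth_congr e]
    have := S10834.depth_of_regular (Localization.AtPrime P)
    rw [IsLocalization.AtPrime.ringKrullDim_eq_height P] at this
    rw [WithBot.coe_inj.1 this]
    exact hh
  obtain ⟨fs, hlen, hmem, hfs⟩ := (S2854.result ↑F ↑F IF 2).1 hprime
  obtain ⟨u, v, rfl⟩ : ∃ u v, fs = [u, v] := by
    rcases fs with _ | ⟨u, _ | ⟨v, _ | ⟨_, _⟩⟩⟩ <;> simp at hlen
    exact ⟨u, v, rfl⟩
  have hlift : ∀ r ∈ [u, v], ∃ i ∈ I, ∃ c : F, IsUnit c ∧ π (γ i) = r * c := fun r hr => by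
    obtain ⟨z, hz, rfl⟩ := (Ideal.mem_map_iff_of_surjective π hπ).1 (hmem r hr)
    obtain ⟨⟨i, c⟩, hic⟩ := (IsLocalization.mem_map_algebraMap_iff
      (hW.primeIdealOf ⟨x, hxW⟩).asIdeal.primeCompl (X.presheaf.stalk x)).1 hz
    refine ⟨i, i.2, π (γ c), (IsLocalization.map_units (X.presheaf.stalk x) c).map π, ?_⟩
    rw [← map_mul]; exact congrArg π hic.symm
  obtain ⟨i₁, hi₁, c₁, hc₁, he₁⟩ := hlift u (by simp)
  obtain ⟨i₂, hi₂, c₂, hc₂, he₂⟩ := hlift v (by simp)
  obtain ⟨hu, hv'⟩ := (isWeaklyRegular_cons_iff _ _ _).1 hfs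
  have hv := ((isWeaklyRegular_cons_iff _ _ _).1 hv').1
  have hnotU : ∀ i ∈ I, γ i ∈ maximalIdeal (X.presheaf.stalk x) := fun i hi hun =>
    hwU (hi ((X.mem_basicOpen i x hxW).2 hun))
  have hker := FlatDvr.ker_stalkMap_fiberι g w
  obtain ⟨Vb, hVb, U', hU', hxU', -, -, hs', hgerm, -, hwr, -⟩ :=
    Triage.SliceFlat.exists_slice_sch g x (Flat.stalkMap g x) [γ i₁, γ i₂]
      (by simp only [List.mem_cons, List.not_mem_nil, or_false]; rintro _ (rfl | rfl); exacts [hnotU _ hi₁, hnotU _ hi₂])
      (fun i hi z hz => by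
        have hπJ : ∀ (L : Ideal (X.presheaf.stalk x)) y,
            y ∈ L ⊔ (maximalIdeal (S.presheaf.stalk (g x))).map (g.stalkMap x).hom ↔ π y ∈ L.map π := fun L y => by
          rw [← Ideal.mem_comap, Ideal.comap_map_of_surjective _ hπ, ← RingHom.ker_eq_comap_bot]
          exact hker ▸ Iff.rfl
        rw [hπJ] at hz ⊢
        simp only [List.length_cons, List.length_nil] at hi
        rcases i with _ | _ | i
        ·
          simp only [List.take_zero, Ideal.ofList_nil, Ideal.map_bot, Ideal.mem_bot, List.getElem_cons_zero,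
            map_mul, he₁] at hz ⊢
          exact hu.right_eq_zero_of_smul (show u • π z = 0 from (hc₁.mul_left_eq_zero).1
            (by rw [← hz, smul_eq_mul]; ring))
        ·
          have hsp : (Ideal.ofList ([γ i₁, γ i₂].take 1)).map π = Ideal.span {u} := by
            simp only [List.take_succ_cons, List.take_zero, Ideal.ofList_singleton, Ideal.map_span,
              Set.image_singleton, he₁]
            exact (Ideal.span_singleton_eq_span_singleton.2 (associated_mul_unit_right u c₁ hc₁)).symm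
          rw [hsp] at hz ⊢
          simp only [List.getElem_cons_succ, List.getElem_cons_zero, map_mul, he₂] at hz
          have h0 : v * π z ∈ Ideal.span {u} := by
            have := Ideal.mul_mem_left _ (hc₂.unit⁻¹ : Fˣ).1 hz
            rwa [show ((hc₂.unit⁻¹ : Fˣ) : F) * (v * c₂ * π z) = v * π z * ((hc₂.unit⁻¹ : Fˣ).1 * c₂) by ring,
              IsUnit.val_inv_mul, mul_one] at this
          have key : ∀ y, Submodule.Quotient.mk (p := u • (⊤ : Submodule F F)) y = 0 ↔ y ∈ Ideal.span {u} := by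
            intro y
            rw [Submodule.Quotient.mk_eq_zero, ← Submodule.ideal_span_singleton_smul, Ideal.smul_eq_mul, Ideal.mul_top]
          refine (key _).1 (hv.right_eq_zero_of_smul ?_)
          rw [← Submodule.Quotient.mk_smul]
          exact (key _).2 h0
        · omega) ⊤ trivial
  obtain ⟨a, b, rfl⟩ : ∃ a b, hs' = [a, b] := by
    have : hs'.length = 2 := by have := congrArg List.length hgerm; simpa using this
    rcases hs' with _ | ⟨a, _ | ⟨b, _ | ⟨_, _⟩⟩⟩ <;> simp at this
    exact ⟨a, b, rfl⟩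
  simp only [List.map_cons, List.map_nil, List.cons.injEq, and_true] at hgerm
  obtain ⟨Wa, hxa, l₁, r₁, ea⟩ := X.presheaf.germ_eq x hxU' hxW a i₁ hgerm.1
  obtain ⟨Wb, hxb, l₂, r₂, eb⟩ := X.presheaf.germ_eq x hxU' hxW b i₂ hgerm.2
  obtain ⟨h, hle, hxh⟩ := hU'.exists_basicOpen_le (V := U' ⊓ (Wa ⊓ Wb)) ⟨x, ⟨hxU', hxa, hxb⟩⟩ hxU'
  letI := (X.presheaf.map (homOfLE (X.basicOpen_le h)).op).hom.toAlgebra
  haveI := hU'.isLocalization_basicOpen h
  refine ⟨X.basicOpen h, hU'.basicOpen h, hxh, _, _, hwr.of_isLocalization _ (Submonoid.powers h), ?_, ?_⟩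
  · have : algebraMap Γ(X, U') Γ(X, X.basicOpen h) a =
        X.presheaf.map (homOfLE ((hle.trans inf_le_right).trans inf_le_left)).op (X.presheaf.map r₁.op i₁) := by
      rw [← ea]
      simp only [RingHom.algebraMap_toAlgebra, ← CategoryTheory.comp_apply, ← Functor.map_comp]
      rfl
    rw [this, Scheme.basicOpen_res, Scheme.basicOpen_res]
    exact inf_le_right.trans (inf_le_right.trans hi₁)
  · have : algebraMap Γ(X, U') Γ(X, X.basicOpen h) b =
        X.presheaf.map (homOfLE ((hle.trans inf_le_right).trans inf_le_right)).op (X.presheaf.map r₂.op i₂) := by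
      rw [← eb]
      simp only [RingHom.algebraMap_toAlgebra, ← CategoryTheory.comp_apply, ← Functor.map_comp]
      rfl
    rw [this, Scheme.basicOpen_res, Scheme.basicOpen_res]
    exact inf_le_right.trans (inf_le_right.trans hi₂)

end Groth.Agent.RhoShLib
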