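import Mathlib.AlgebraicGeometry.AffineScheme
import Mathlib.AlgebraicGeometry.Morphisms.Affine
import Mathlib.RingTheory.Regular.RegularSequence
import Mathlib.RingTheory.Regular.Flat

/-!
# Sections extend across a closed set cut out locally by regular sequences of length two
-/

set_option autoImplicit false
set_option backward.isDefEq.respectTransparency false
set_option backward.isDefEq.respectTransparency.types false

universe u

open CategoryTheory CategoryTheory.Limits AlgebraicGeometry TopologicalSpace RingTheory.Sequence Pointwise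

namespace Groth.Agent.RhoShLib

variable {X : Scheme.{u}}

/-- `U` contains the non-vanishing loci of local regular sequences of length two around the other points. -/
def Big (U : X.Opens) : Prop :=
  ∀ x : X, x ∉ U → ∃ (V : X.Opens) (_ : IsAffineOpen V) (_ : x ∈ V) (a b : Γ(X, V)),
    IsWeaklyRegular Γ(X, V) [a, b] ∧ X.basicOpen a ≤ U ∧ X.basicOpen b ≤ U

theorem res_res {U V W : X.Opens} (i : V ≤ U) (j : W ≤ V) (s : Γ(X, U)) :
    X.presheaf.map (homOfLE j).op (X.presheaf.map (homOfLE i).op s) =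
      X.presheaf.map (homOfLE (j.trans i)).op s := by
  rw [← CategoryTheory.comp_apply, ← Functor.map_comp]; rfl

/-- A section vanishing where a regular section of an affine open is invertible is zero. -/
theorem eq_zero_of_res_basicOpen {V : X.Opens} (hV : IsAffineOpen V) (f : Γ(X, V)) (hf : IsSMulRegular Γ(X, V) f)
    (W : X.Opens) (hW : W ≤ V) (s : Γ(X, W)) (W' : X.Opens) (hW'W : W' ≤ W) (hW' : W ⊓ X.basicOpen f ≤ W')
    (hs : X.presheaf.map (homOfLE hW'W).op s = 0) : s = 0 := by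
  refine TopCat.Sheaf.eq_of_locally_eq' X.sheaf (fun h : {h : Γ(X, V) // X.basicOpen h ≤ W} => X.basicOpen h.1) W
    (fun h => homOfLE h.2) (fun x hx => ?_) s 0 fun ⟨h, hh⟩ => ?_
  · obtain ⟨h, hle, hxh⟩ := hV.exists_basicOpen_le (V := W) ⟨x, hx⟩ (hW hx)
    exact Opens.mem_iSup.2 ⟨⟨h, hle⟩, hxh⟩
  rw [map_zero]
  show X.presheaf.map (homOfLE hh).op s = 0
  letI := (X.presheaf.map (homOfLE (X.basicOpen_le h)).op).hom.toAlgebra
  haveI := hV.isLocalization_basicOpen h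
  obtain ⟨⟨c, t⟩, hct⟩ := IsLocalization.surj (Submonoid.powers h) (X.presheaf.map (homOfLE hh).op s)
  letI := (X.presheaf.map (homOfLE (X.basicOpen_le (h * f))).op).hom.toAlgebra
  haveI := hV.isLocalization_basicOpen (h * f)
  have hle : X.basicOpen (h * f) ≤ X.basicOpen h := by rw [X.basicOpen_mul]; exact inf_le_left
  have hle' : X.basicOpen (h * f) ≤ W' := by
    rw [X.basicOpen_mul]; exact (inf_le_inf_right _ hh).trans hW'
  have hz : algebraMap Γ(X, V) Γ(X, X.basicOpen (h * f)) c = 0 := by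
    have h1 := congrArg (X.presheaf.map (homOfLE hle).op) hct.symm
    rw [map_mul, res_res hh hle, ← res_res hW'W hle' s, hs, map_zero, zero_mul] at h1
    rw [RingHom.algebraMap_toAlgebra] at h1 ⊢
    rwa [res_res] at h1
  obtain ⟨⟨_, m, rfl⟩, hm⟩ := (IsLocalization.map_eq_zero_iff (Submonoid.powers (h * f))
    Γ(X, X.basicOpen (h * f)) c).1 hz
  have hm' : h ^ m * c = 0 := (hf.pow m).right_eq_zero_of_smul (by
    rw [smul_eq_mul, ← mul_assoc, ← mul_pow, mul_comm f h]; exact hm)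
  have hc : algebraMap Γ(X, V) Γ(X, X.basicOpen h) c = 0 :=
    (IsLocalization.map_eq_zero_iff (Submonoid.powers h) _ c).2 ⟨⟨h ^ m, m, rfl⟩, hm'⟩
  rw [hc] at hct
  exact (IsLocalization.map_units _ t).mul_left_eq_zero.1 hct

theorem sep {U : X.Opens} (hU : Big U) (W : X.Opens) (s : Γ(X, W))
    (hs : X.presheaf.map (homOfLE (inf_le_left : W ⊓ U ≤ W)).op s = 0) : s = 0 := by
  refine TopCat.Presheaf.section_ext X.sheaf _ _ _ fun x hx => ?_
  show X.presheaf.germ W x hx s = X.presheaf.germ W x hx 0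
  rw [map_zero]
  by_cases hxU : x ∈ U
  · rw [← X.presheaf.germ_res_apply (homOfLE (inf_le_left : W ⊓ U ≤ W)) x ⟨hx, hxU⟩ s, hs, map_zero]
  · obtain ⟨V, hV, hxV, a, b, hab, ha, -⟩ := hU x hxU
    have hreg := ((isWeaklyRegular_cons_iff _ _ _).1 hab).1
    have := eq_zero_of_res_basicOpen hV a hreg (W ⊓ V) inf_le_right
      (X.presheaf.map (homOfLE (inf_le_left : W ⊓ V ≤ W)).op s) (W ⊓ V ⊓ U) inf_le_left
      (le_inf inf_le_left (inf_le_right.trans ha)) (by
        rw [res_res, ← res_res (inf_le_left : W ⊓ U ≤ W) (inf_le_inf_right U (inf_le_left : W ⊓ V ≤ W)), hs,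
          map_zero])
    rw [← X.presheaf.germ_res_apply (homOfLE (inf_le_left : W ⊓ V ≤ W)) x ⟨hx, hxV⟩ s, this, map_zero]

/-- Cancelling the powers of the first member of a regular sequence. -/
theorem exists_div_pow {A : Type u} [CommRing A] {f g : A} (hf : IsSMulRegular A f)
    (hg : IsSMulRegular (QuotSMulTop f A) g) : ∀ (n M : ℕ) (a b : A), g ^ M * a = f ^ n * b → ∃ c, a = f ^ n * c
  | 0, _, a, _, _ => ⟨a, by simp⟩
  | n + 1, M, a, b, h => by
    have h0 : Submodule.Quotient.mk (p := f • (⊤ : Submodule A A)) a = 0 := by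
      refine (hg.pow M).right_eq_zero_of_smul ?_
      rw [← Submodule.Quotient.mk_smul, smul_eq_mul, h, Submodule.Quotient.mk_eq_zero]
      exact ⟨f ^ n * b, trivial, by simp [pow_succ']; ring⟩
    obtain ⟨a', -, ha'⟩ := (Submodule.Quotient.mk_eq_zero _).1 h0
    obtain ⟨c, rfl⟩ := exists_div_pow hf hg n M a' b (hf (by
      simp only [smul_eq_mul]
      rw [show f * (g ^ M * a') = g ^ M * (f * a') by ring]
      rw [show f * a' = a from ha', h, pow_succ']; ring))
    exact ⟨c, by rw [← ha']; simp [pow_succ']; ring⟩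

/-- On an affine piece, a section over the intersection with `U` extends. -/
theorem exists_extend {V : X.Opens} (hV : IsAffineOpen V) (a b : Γ(X, V)) (hab : IsWeaklyRegular Γ(X, V) [a, b])
    (U : X.Opens) (ha : X.basicOpen a ≤ U) (hb : X.basicOpen b ≤ U) (t : Γ(X, V ⊓ U)) :
    ∃ c : Γ(X, V), X.presheaf.map (homOfLE (inf_le_left : V ⊓ U ≤ V)).op c = t := by
  obtain ⟨hf, hab'⟩ := (isWeaklyRegular_cons_iff _ _ _).1 hab
  have hg := ((isWeaklyRegular_cons_iff _ _ _).1 hab').1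
  have hA : X.basicOpen a ≤ V ⊓ U := le_inf (X.basicOpen_le a) ha
  have hB : X.basicOpen b ≤ V ⊓ U := le_inf (X.basicOpen_le b) hb
  letI := (X.presheaf.map (homOfLE (X.basicOpen_le a)).op).hom.toAlgebra
  haveI := hV.isLocalization_basicOpen a
  letI := (X.presheaf.map (homOfLE (X.basicOpen_le b)).op).hom.toAlgebra
  haveI := hV.isLocalization_basicOpen b
  letI := (X.presheaf.map (homOfLE (X.basicOpen_le (a * b))).op).hom.toAlgebra
  haveI := hV.isLocalization_basicOpen (a * b)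
  obtain ⟨⟨p, ⟨_, n, rfl⟩⟩, hp⟩ := IsLocalization.surj (Submonoid.powers a) (X.presheaf.map (homOfLE hA).op t)
  obtain ⟨⟨q, ⟨_, m, rfl⟩⟩, hq⟩ := IsLocalization.surj (Submonoid.powers b) (X.presheaf.map (homOfLE hB).op t)
  have lA : X.basicOpen (a * b) ≤ X.basicOpen a := by rw [X.basicOpen_mul]; exact inf_le_left
  have lB : X.basicOpen (a * b) ≤ X.basicOpen b := by rw [X.basicOpen_mul]; exact inf_le_right
  have hp' := congrArg (X.presheaf.map (homOfLE lA).op) hp
  have hq' := congrArg (X.presheaf.map (homOfLE lB).op) hq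
  simp only [RingHom.algebraMap_toAlgebra, map_mul, res_res] at hp' hq'
  have heq : algebraMap Γ(X, V) Γ(X, X.basicOpen (a * b)) (b ^ m * p) =
      algebraMap Γ(X, V) Γ(X, X.basicOpen (a * b)) (a ^ n * q) := by
    simp only [RingHom.algebraMap_toAlgebra, map_mul]
    rw [← hp', ← hq']; ring
  obtain ⟨⟨_, N, rfl⟩, hN⟩ := (IsLocalization.eq_iff_exists (Submonoid.powers (a * b))
    Γ(X, X.basicOpen (a * b))).1 heq
  have hN' : b ^ N * (b ^ m * p) = b ^ N * (a ^ n * q) := by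
    refine hf.pow N ?_
    simp only [smul_eq_mul, ← mul_assoc, ← mul_pow] at hN ⊢
    exact hN
  obtain ⟨c, hc⟩ := exists_div_pow hf hg n (N + m) p (b ^ N * q) (by
    rw [pow_add, mul_assoc, hN']; ring)
  refine ⟨c, sub_eq_zero.1 ?_⟩
  refine eq_zero_of_res_basicOpen hV a hf (V ⊓ U) inf_le_left _ (X.basicOpen a) hA inf_le_right ?_
  rw [map_sub, res_res, sub_eq_zero]
  have hu : IsUnit (algebraMap Γ(X, V) Γ(X, X.basicOpen a) (a ^ n)) :=
    IsLocalization.map_units _ (⟨a ^ n, n, rfl⟩ : Submonoid.powers a)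
  refine hu.mul_left_inj.1 ?_
  rw [hp, hc, map_mul]
  simp only [RingHom.algebraMap_toAlgebra]
  exact mul_comm _ _

theorem res_bijective {U : X.Opens} (hU : Big U) (W : X.Opens) :
    Function.Bijective (X.presheaf.map (homOfLE (inf_le_left : W ⊓ U ≤ W)).op) := by
  have hinj : ∀ W : X.Opens, Function.Injective (X.presheaf.map (homOfLE (inf_le_left : W ⊓ U ≤ W)).op) :=
    fun W s t h => sub_eq_zero.1 (sep hU W _ (by rw [map_sub]; exact sub_eq_zero.2 h))
  refine ⟨hinj W, fun t => ?_⟩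
  have hloc : ∀ x : W, ∃ (O : X.Opens) (hO : O ≤ W), x.1 ∈ O ∧ ∃ c : Γ(X, O),
      X.presheaf.map (homOfLE (inf_le_left : O ⊓ U ≤ O)).op c =
        X.presheaf.map (homOfLE (inf_le_inf_right U hO)).op t := by
    intro x
    by_cases hxU : x.1 ∈ U
    · exact ⟨W ⊓ U, inf_le_left, ⟨x.2, hxU⟩, t, by congr⟩
    · obtain ⟨V, hV, hxV, a, b, hab, ha, hb⟩ := hU x.1 hxU
      obtain ⟨h, hle, hxh⟩ := hV.exists_basicOpen_le (V := W) ⟨x.1, x.2⟩ hxV
      letI := (X.presheaf.map (homOfLE (X.basicOpen_le h)).op).hom.toAlgebra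
      haveI := hV.isLocalization_basicOpen h
      refine ⟨X.basicOpen h, hle, hxh, exists_extend (hV.basicOpen h) _ _
        (hab.of_isLocalization Γ(X, X.basicOpen h) (Submonoid.powers h)) U ?_ ?_ _⟩
      · exact (Scheme.basicOpen_res _ a (homOfLE (X.basicOpen_le h)).op).trans_le (inf_le_right.trans ha)
      · exact (Scheme.basicOpen_res _ b (homOfLE (X.basicOpen_le h)).op).trans_le (inf_le_right.trans hb)
  choose O hO hxO c hc using hloc
  obtain ⟨s, hs, -⟩ := X.sheaf.existsUnique_gluing' O W (fun x => homOfLE (hO x))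
    (fun x hx => Opens.mem_iSup.2 ⟨⟨x, hx⟩, hxO ⟨x, hx⟩⟩) c fun x y => by
      refine hinj _ ?_
      show X.presheaf.map _ (X.presheaf.map _ (c x)) = X.presheaf.map _ (X.presheaf.map _ (c y))
      have h1 := congrArg (X.presheaf.map (homOfLE (inf_le_inf_right U (inf_le_left : O x ⊓ O y ≤ O x))).op) (hc x)
      have h2 := congrArg (X.presheaf.map (homOfLE (inf_le_inf_right U (inf_le_right : O x ⊓ O y ≤ O y))).op) (hc y)
      rw [res_res, res_res] at h1 h2
      show X.presheaf.map _ (X.presheaf.map (homOfLE inf_le_left).op (c x)) =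
        X.presheaf.map _ (X.presheaf.map (homOfLE inf_le_right).op (c y))
      rw [res_res, res_res]
      exact h1.trans h2.symm
  refine ⟨s, TopCat.Sheaf.eq_of_locally_eq' X.sheaf (fun x => O x ⊓ U) (W ⊓ U)
    (fun x => homOfLE (inf_le_inf_right U (hO x))) (fun z hz => Opens.mem_iSup.2 ⟨⟨z, hz.1⟩, hxO _, hz.2⟩) _ _
    fun x => ?_⟩
  show X.presheaf.map _ (X.presheaf.map _ s) = X.presheaf.map _ t
  rw [res_res, ← hc x, ← res_res (hO x) inf_le_left s]
  exact congrArg _ (hs x)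

end Groth.Agent.RhoShLib

namespace Groth.Agent.RhoShLib

variable {X : Scheme.{u}} {U : X.Opens}

/-- Morphisms to an affine scheme extend uniquely. -/
theorem existsUnique_extend_affine (hU : Big U) (W : X.Opens) {Y : Scheme.{u}} [IsAffine Y]
    (f : ((W ⊓ U : X.Opens) : Scheme.{u}) ⟶ Y) :
    ∃! g : (W : Scheme.{u}) ⟶ Y, X.homOfLE (inf_le_left : W ⊓ U ≤ W) ≫ g = f := by
  let j := X.homOfLE (inf_le_left : W ⊓ U ≤ W)
  haveI : IsIso j.appTop := by
    have key : ∀ (A B : X.Opens) (h : B ≤ A), A = W → B = W ⊓ U →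
        Function.Bijective (X.presheaf.map (homOfLE h).op) := by
      rintro A B h rfl rfl; exact res_bijective hU _
    rw [ConcreteCategory.isIso_iff_bijective, Scheme.homOfLE_appTop]
    exact key _ _ _ (Scheme.Opens.ι_image_top W) (Scheme.Opens.ι_image_top _)
  refine ⟨(W : Scheme.{u}).toSpecΓ ≫ Spec.map (f.appTop ≫ inv j.appTop) ≫ Y.isoSpec.inv, ?_, fun g hg => ?_⟩
  · show j ≫ (W : Scheme.{u}).toSpecΓ ≫ Spec.map (f.appTop ≫ inv j.appTop) ≫ Y.isoSpec.inv = f
    rw [Scheme.toSpecΓ_naturality_assoc, ← Spec.map_comp_assoc, Category.assoc, IsIso.inv_hom_id,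
      Category.comp_id, ← Scheme.toSpecΓ_naturality_assoc]
    show f ≫ Y.isoSpec.hom ≫ Y.isoSpec.inv = f
    rw [Iso.hom_inv_id, Category.comp_id]
  · refine ext_of_isAffine ((cancel_mono j.appTop).1 ?_)
    rw [← Scheme.Hom.comp_appTop, ← Scheme.Hom.comp_appTop, hg]
    congr 1
    rw [Scheme.toSpecΓ_naturality_assoc, ← Spec.map_comp_assoc, Category.assoc, IsIso.inv_hom_id,
      Category.comp_id, ← Scheme.toSpecΓ_naturality_assoc]
    show f = f ≫ Y.isoSpec.hom ≫ Y.isoSpec.inv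
    rw [Iso.hom_inv_id, Category.comp_id]

variable {Y : Scheme.{u}} (p : Y ⟶ X) [IsAffineHom p] (s : (U : Scheme.{u}) ⟶ Y)

/-- A section over `W` extending the given one. -/
def IsExt (W : X.Opens) (t : (W : Scheme.{u}) ⟶ Y) : Prop :=
  t ≫ p = W.ι ∧ X.homOfLE (inf_le_left : W ⊓ U ≤ W) ≫ t = X.homOfLE (inf_le_right : W ⊓ U ≤ U) ≫ s

variable {p s}

omit [IsAffineHom p] in
theorem IsExt.restrict {W W' : X.Opens} {t : (W : Scheme.{u}) ⟶ Y} (h : IsExt p s W t) (e : W' ≤ W) :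
    IsExt p s W' (X.homOfLE e ≫ t) := by
  refine ⟨by rw [Category.assoc, h.1, Scheme.homOfLE_ι], ?_⟩
  have := congrArg (X.homOfLE (inf_le_inf_right U e) ≫ ·) h.2
  simp only [Scheme.homOfLE_homOfLE_assoc] at this ⊢
  exact this

omit [IsAffineHom p] in
theorem IsExt.range_subset {W : X.Opens} {t : (W : Scheme.{u}) ⟶ Y} (h : IsExt p s W t) :
    Set.range t ⊆ Set.range (p ⁻¹ᵁ W).ι := by
  rintro _ ⟨y, rfl⟩
  rw [Scheme.Opens.range_ι]
  show p _ ∈ W
  rw [← Scheme.Hom.comp_apply, h.1]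
  exact y.2

theorem IsExt.unique_affine (hU : Big U) {W : X.Opens} (hW : IsAffineOpen W) {t t' : (W : Scheme.{u}) ⟶ Y}
    (h : IsExt p s W t) (h' : IsExt p s W t') : t = t' := by
  haveI : IsAffine (p ⁻¹ᵁ W : Y.Opens) := hW.preimage p
  have e : IsOpenImmersion.lift (p ⁻¹ᵁ W).ι t h.range_subset = IsOpenImmersion.lift (p ⁻¹ᵁ W).ι t' h'.range_subset := by
    refine (existsUnique_extend_affine hU W
      (X.homOfLE inf_le_left ≫ IsOpenImmersion.lift (p ⁻¹ᵁ W).ι t' h'.range_subset)).unique ?_ rfl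
    rw [← cancel_mono (p ⁻¹ᵁ W).ι, Category.assoc, Category.assoc, IsOpenImmersion.lift_fac,
      IsOpenImmersion.lift_fac, h.2, h'.2]
  simpa using congrArg (· ≫ (p ⁻¹ᵁ W).ι) e

theorem IsExt.unique (hU : Big U) {W : X.Opens} {t t' : (W : Scheme.{u}) ⟶ Y}
    (h : IsExt p s W t) (h' : IsExt p s W t') : t = t' := by
  let 𝒱 : (W : Scheme.{u}).OpenCover := Scheme.Cover.mkOfCovers {V : X.affineOpens // V.1 ≤ W}
    (fun V => (V.1.1 : X.Opens).toScheme) (fun V => X.homOfLE V.2) (fun x => by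
      obtain ⟨V, hV, hxV, hVW⟩ := exists_isAffineOpen_mem_and_subset (show x.1 ∈ W from x.2)
      exact ⟨⟨⟨V, hV⟩, hVW⟩, ⟨x.1, hxV⟩, Subtype.ext (Scheme.homOfLE_apply _ _)⟩)
  exact 𝒱.hom_ext _ _ fun V => IsExt.unique_affine hU V.1.2 (h.restrict V.2) (h'.restrict V.2)

theorem exists_isExt (hU : Big U) (hs : s ≫ p = U.ι) {W : X.Opens} (hW : IsAffineOpen W) :
    ∃ t, IsExt p s W t := by
  haveI : IsAffine (p ⁻¹ᵁ W : Y.Opens) := hW.preimage p
  haveI : IsAffine (W : Scheme.{u}) := hW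
  have e : (X.homOfLE (inf_le_right : W ⊓ U ≤ U) ≫ s) ≫ p = (W ⊓ U).ι := by
    rw [Category.assoc, hs, Scheme.homOfLE_ι]
  have hr : Set.range (X.homOfLE (inf_le_right : W ⊓ U ≤ U) ≫ s) ⊆ Set.range (p ⁻¹ᵁ W).ι := by
    rintro _ ⟨y, rfl⟩
    rw [Scheme.Opens.range_ι]
    show p _ ∈ W
    rw [← Scheme.Hom.comp_apply, e]
    exact y.2.1
  obtain ⟨g, hg, -⟩ := existsUnique_extend_affine hU W (IsOpenImmersion.lift (p ⁻¹ᵁ W).ι _ hr)
  refine ⟨g ≫ (p ⁻¹ᵁ W).ι, ?_, by rw [← Category.assoc, hg, IsOpenImmersion.lift_fac]⟩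
  have h2 := (existsUnique_extend_affine hU W (X.homOfLE (inf_le_left : W ⊓ U ≤ W))).unique
    (y₁ := g ≫ p.resLE W (p ⁻¹ᵁ W) le_rfl) (y₂ := 𝟙 _) ?_ (Category.comp_id _)
  · simpa using congrArg (· ≫ W.ι) h2
  · rw [← cancel_mono W.ι]
    simp only [Category.assoc, Scheme.Hom.resLE_comp_ι, Scheme.homOfLE_ι]
    rw [← Category.assoc (X.homOfLE _) g, hg, IsOpenImmersion.lift_fac_assoc]
    simpa using e

theorem existsUnique_section (hU : Big U) (hs : s ≫ p = U.ι) :
    ∃! t : X ⟶ Y, t ≫ p = 𝟙 X ∧ U.ι ≫ t = s := by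
  choose h hh using fun V : X.affineOpens => exists_isExt (p := p) (s := s) hU hs V.2
  let 𝒰 : X.OpenCover := X.openCoverOfIsOpenCover (fun V : X.affineOpens => V.1) (by
    refine top_le_iff.mp fun x _ => ?_
    obtain ⟨V, hV, hxV, -⟩ := exists_isAffineOpen_mem_and_subset (X := X) (x := x) (U := ⊤) trivial
    exact Opens.mem_iSup.mpr ⟨⟨V, hV⟩, hxV⟩)
  have hcompat : ∀ V V' : X.affineOpens, pullback.fst V.1.ι V'.1.ι ≫ h V = pullback.snd V.1.ι V'.1.ι ≫ h V' := by
    intro V V'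
    have hr : Set.range (pullback.fst V.1.ι V'.1.ι ≫ V.1.ι) ⊆ Set.range (V.1 ⊓ V'.1).ι := by
      rintro _ ⟨y, rfl⟩
      rw [Scheme.Opens.range_ι]
      refine ⟨(pullback.fst V.1.ι V'.1.ι y).2, ?_⟩
      show (pullback.fst V.1.ι V'.1.ι ≫ V.1.ι) y ∈ V'.1
      rw [pullback.condition]
      exact (pullback.snd V.1.ι V'.1.ι y).2
    let c := IsOpenImmersion.lift (V.1 ⊓ V'.1).ι _ hr
    have e1 : c ≫ X.homOfLE (inf_le_left : V.1 ⊓ V'.1 ≤ V.1) = pullback.fst V.1.ι V'.1.ι := by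
      rw [← cancel_mono V.1.ι, Category.assoc, Scheme.homOfLE_ι, IsOpenImmersion.lift_fac]
    have e2 : c ≫ X.homOfLE (inf_le_right : V.1 ⊓ V'.1 ≤ V'.1) = pullback.snd V.1.ι V'.1.ι := by
      rw [← cancel_mono V'.1.ι, Category.assoc, Scheme.homOfLE_ι, IsOpenImmersion.lift_fac, pullback.condition]
    rw [← e1, ← e2, Category.assoc, Category.assoc]
    exact congrArg (c ≫ ·) (IsExt.unique hU ((hh V).restrict inf_le_left) ((hh V').restrict inf_le_right))
  let t : X ⟶ Y := 𝒰.glueMorphisms h hcompat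
  have ht : ∀ V : X.affineOpens, V.1.ι ≫ t = h V := fun V => 𝒰.ι_glueMorphisms h hcompat V
  refine ⟨t, ⟨𝒰.hom_ext _ _ fun V => ?_, ?_⟩, fun t' ht' => 𝒰.hom_ext _ _ fun V => ?_⟩
  · show V.1.ι ≫ t ≫ p = V.1.ι ≫ 𝟙 X
    rw [← Category.assoc, ht, (hh V).1, Category.comp_id]
  · let 𝒱 : (U : Scheme.{u}).OpenCover := Scheme.Cover.mkOfCovers X.affineOpens
      (fun V => (V.1 ⊓ U : X.Opens).toScheme) (fun V => X.homOfLE inf_le_right) (fun x => by
        obtain ⟨V, hV, hxV, -⟩ := exists_isAffineOpen_mem_and_subset (X := X) (x := x.1) (U := ⊤) trivial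
        exact ⟨⟨V, hV⟩, ⟨x.1, hxV, x.2⟩, Subtype.ext (Scheme.homOfLE_apply _ _)⟩)
    refine 𝒱.hom_ext _ _ fun V => ?_
    show X.homOfLE inf_le_right ≫ U.ι ≫ t = X.homOfLE inf_le_right ≫ s
    rw [← (hh V).2, ← ht V, Scheme.homOfLE_ι_assoc, Scheme.homOfLE_ι_assoc]
  · show V.1.ι ≫ t' = V.1.ι ≫ t
    rw [ht]
    refine IsExt.unique hU ⟨?_, ?_⟩ (hh V)
    · rw [Category.assoc, ht'.1, Category.comp_id]
    · rw [Scheme.homOfLE_ι_assoc, ← ht'.2, Scheme.homOfLE_ι_assoc]

end Groth.Agent.RhoShLib
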